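import Mathlib

set_option linter.style.haveILetI false
set_option linter.unusedSectionVars false

/-! Hands-on vanishing of Čech `H¹` of a square-zero quasi-coherent ideal on a finite affine cover,
in the form needed to lift sections along a square-zero thickening. -/

open AlgebraicGeometry CategoryTheory Opposite TopologicalSpace

namespace Groth.Agent.H61.AffThick

universe u

variable {X : Scheme.{u}}

/-- restriction of sections as a ring homomorphism. -/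
noncomputable def res {U V : X.Opens} (h : V ≤ U) : Γ(X, U) →+* Γ(X, V) :=
  (X.presheaf.map (homOfLE h).op).hom

lemma res_res {U V W : X.Opens} (h₁ : W ≤ V) (h₂ : V ≤ U) (x : Γ(X, U)) :
    res h₁ (res h₂ x) = res (h₁.trans h₂) x := by
  unfold res
  rw [← CommRingCat.comp_apply, ← Functor.map_comp]
  rfl

lemma res_self {U : X.Opens} (x : Γ(X, U)) : res (le_refl U) x = x := by
  unfold res
  have : (homOfLE (le_refl U)).op = 𝟙 (op U) := rfl
  rw [this, X.presheaf.map_id]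
  rfl

lemma res_eq_restrictOpen {U V : X.Opens} (h : V ≤ U) (x : Γ(X, U)) :
    res h x = TopCat.Presheaf.restrictOpen x V h := rfl

/-- if `a - b ∈ I` then `a ^ n - b ^ n ∈ I`. -/
lemma pow_sub_pow_mem {R : Type*} [CommRing R] (I : Ideal R) {a b : R} (h : a - b ∈ I) (n : ℕ) :
    a ^ n - b ^ n ∈ I := by
  have h1 : Ideal.Quotient.mk I a = Ideal.Quotient.mk I b := by
    rwa [Ideal.Quotient.eq]
  rw [← Ideal.Quotient.eq, map_pow, map_pow, h1]

section cech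

variable {J : Type*} [Fintype J] [DecidableEq J]
  (U : J → X.Opens) (hU : ∀ j, IsAffineOpen (U j))
  (𝒦 : ∀ W : X.Opens, Ideal Γ(X, W))
  (hres : ∀ (V W : X.Opens) (h : V ≤ W) (x : Γ(X, W)), x ∈ 𝒦 W → res h x ∈ 𝒦 V)
  (hsq : ∀ (W : X.Opens), IsAffineOpen W → ∀ (x y : Γ(X, W)), x ∈ 𝒦 W → y ∈ 𝒦 W → x * y = 0)
  (γ : J → ∀ j : J, Γ(X, U j))
  (hγ : ∀ j l, U j ⊓ U l = X.basicOpen (γ l j))
  (hγc : ∀ j m l, res (inf_le_left : U j ⊓ U m ≤ U j) (γ l j) -
    res (inf_le_right : U j ⊓ U m ≤ U m) (γ l m) ∈ 𝒦 (U j ⊓ U m))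
  (hL1 : ∀ j l (s : Γ(X, U j ⊓ U l)), s ∈ 𝒦 (U j ⊓ U l) → ∃ (n : ℕ) (x : Γ(X, U j)), x ∈ 𝒦 (U j) ∧
    res (inf_le_left : U j ⊓ U l ≤ U j) x = (res (inf_le_left : U j ⊓ U l ≤ U j) (γ l j)) ^ n * s)
  (hpart : ∀ N : ℕ, ∃ α : J → ∀ j : J, Γ(X, U j),
    (∀ j m l, res (inf_le_left : U j ⊓ U m ≤ U j) (α l j) -
      res (inf_le_right : U j ⊓ U m ≤ U m) (α l m) ∈ 𝒦 (U j ⊓ U m)) ∧
    ∀ j, ∑ l, α l j * (γ l j) ^ N - 1 ∈ 𝒦 (U j))

include hU hres hsq hγ hγc hL1 hpart in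
theorem cech_glue (β : ∀ j, Γ(X, U j))
    (hβ : ∀ j m, res (inf_le_left : U j ⊓ U m ≤ U j) (β j) -
      res (inf_le_right : U j ⊓ U m ≤ U m) (β m) ∈ 𝒦 (U j ⊓ U m)) :
    ∃ μ : ∀ j, Γ(X, U j), (∀ j, μ j ∈ 𝒦 (U j)) ∧
      ∀ j m, res (inf_le_left : U j ⊓ U m ≤ U j) (β j - μ j) =
        res (inf_le_right : U j ⊓ U m ≤ U m) (β m - μ m) := by
  classical
  -- the cocycle
  set c : ∀ j m, Γ(X, U j ⊓ U m) := fun j m =>
    res (inf_le_left : U j ⊓ U m ≤ U j) (β j) - res (inf_le_right : U j ⊓ U m ≤ U m) (β m) with hc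
  -- Step (i)
  choose n₁ x₁ hx₁K hx₁ using fun j l => hL1 j l (c j l) (hβ j l)
  let N₁ : ℕ := Finset.univ.sup fun p : J × J => n₁ p.1 p.2
  have hN₁ : ∀ j l, n₁ j l ≤ N₁ := fun j l =>
    Finset.le_sup (f := fun p : J × J => n₁ p.1 p.2) (Finset.mem_univ (j, l))
  have hx₂ex : ∀ j l, ∃ x : Γ(X, U j), x ∈ 𝒦 (U j) ∧ res (inf_le_left : U j ⊓ U l ≤ U j) x =
      (res (inf_le_left : U j ⊓ U l ≤ U j) (γ l j)) ^ N₁ * c j l := by
    intro j l
    refine ⟨(γ l j) ^ (N₁ - n₁ j l) * x₁ j l, Ideal.mul_mem_left _ _ (hx₁K j l), ?_⟩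
    rw [map_mul, map_pow, hx₁, ← mul_assoc, ← pow_add, Nat.sub_add_cancel (hN₁ j l)]
  choose x₂ hx₂K hx₂ using hx₂ex
  -- affine-ness of double intersections
  have hUU : ∀ j m, IsAffineOpen (U j ⊓ U m) := fun j m => by
    rw [hγ j m]
    exact (hU j).basicOpen _
  -- Step (ii)
  have key2 : ∀ j m l, ∃ n : ℕ, (res (inf_le_left : U j ⊓ U m ≤ U j) (γ l j)) ^ n *
      (res (inf_le_left : U j ⊓ U m ≤ U j) (x₂ j l) - res (inf_le_right : U j ⊓ U m ≤ U m) (x₂ m l) -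
        (res (inf_le_left : U j ⊓ U m ≤ U j) (γ l j)) ^ N₁ * c j m) = 0 := by
    intro j m l
    set f := res (inf_le_left : U j ⊓ U m ≤ U j) (γ l j) with hf
    set y := res (inf_le_left : U j ⊓ U m ≤ U j) (x₂ j l) - res (inf_le_right : U j ⊓ U m ≤ U m) (x₂ m l) -
        f ^ N₁ * c j m with hy
    apply exists_pow_mul_eq_zero_of_res_basicOpen_eq_zero_of_isAffineOpen X (hUU j m) y f
    -- the basic open of `f`
    have hW : X.basicOpen f = (U j ⊓ U m) ⊓ (U j ⊓ U l) := by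
      rw [hf, hγ j l]
      exact Scheme.basicOpen_res _ _ _
    have hWj : X.basicOpen f ≤ U j := hW.le.trans (inf_le_left.trans inf_le_left)
    have hWm : X.basicOpen f ≤ U m := hW.le.trans (inf_le_left.trans inf_le_right)
    have hWl : X.basicOpen f ≤ U l := hW.le.trans (inf_le_right.trans inf_le_right)
    have hWjm : X.basicOpen f ≤ U j ⊓ U m := le_inf hWj hWm
    have hWjl : X.basicOpen f ≤ U j ⊓ U l := le_inf hWj hWl
    have hWml : X.basicOpen f ≤ U m ⊓ U l := le_inf hWm hWl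
    change res hWjm y = 0
    -- abbreviations on `W`
    set gj := res hWj (γ l j) with hgj
    set gm := res hWm (γ l m) with hgm
    have hgK : gm ^ N₁ - gj ^ N₁ ∈ 𝒦 (X.basicOpen f) := by
      apply pow_sub_pow_mem
      have := hres _ _ hWjm _ (hγc j m l)
      rw [map_sub, res_res, res_res] at this
      have h2 := (𝒦 (X.basicOpen f)).neg_mem this
      rwa [neg_sub] at h2
    have hcK : res hWml (c m l) ∈ 𝒦 (X.basicOpen f) := hres _ _ hWml _ (hβ m l)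
    have h0 : (gm ^ N₁ - gj ^ N₁) * res hWml (c m l) = 0 :=
      hsq _ ((hUU j m).basicOpen f) _ _ hgK hcK
    have e1 : res hWjm (res (inf_le_left : U j ⊓ U m ≤ U j) (x₂ j l)) = gj ^ N₁ * res hWjl (c j l) := by
      rw [res_res, ← res_res hWjl (inf_le_left : U j ⊓ U l ≤ U j), hx₂, map_mul, map_pow, res_res]
    have e2 : res hWjm (res (inf_le_right : U j ⊓ U m ≤ U m) (x₂ m l)) = gm ^ N₁ * res hWml (c m l) := by
      rw [res_res, ← res_res hWml (inf_le_left : U m ⊓ U l ≤ U m), hx₂, map_mul, map_pow, res_res]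
    have hfg : res hWjm f = gj := res_res hWjm inf_le_left (γ l j)
    have e3 : res hWjm (f ^ N₁ * c j m) = gj ^ N₁ * res hWjm (c j m) := by
      rw [map_mul, map_pow, hfg]
    have ec1 : res hWjl (c j l) = res hWj (β j) - res hWl (β l) := by
      rw [hc]; simp only [map_sub, res_res]
    have ec2 : res hWml (c m l) = res hWm (β m) - res hWl (β l) := by
      rw [hc]; simp only [map_sub, res_res]
    have ec3 : res hWjm (c j m) = res hWj (β j) - res hWm (β m) := by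
      rw [hc]; simp only [map_sub, res_res]
    rw [hy, map_sub, map_sub, e1, e2, e3]
    have h0' : gm ^ N₁ * res hWml (c m l) = gj ^ N₁ * res hWml (c m l) := by
      rw [← sub_eq_zero, ← sub_mul]; exact h0
    rw [h0', ec1, ec2, ec3]
    ring
  choose n₂ hn₂ using key2
  let N₂ : ℕ := Finset.univ.sup fun p : J × J × J => n₂ p.1 p.2.1 p.2.2
  have hN₂ : ∀ j m l, n₂ j m l ≤ N₂ := fun j m l =>
    Finset.le_sup (f := fun p : J × J × J => n₂ p.1 p.2.1 p.2.2) (Finset.mem_univ (j, m, l))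
  -- Step (iii)
  let N : ℕ := N₂ + N₁
  have hx₃ex : ∀ j l, ∃ x : Γ(X, U j), x = (γ l j) ^ N₂ * x₂ j l := fun j l => ⟨_, rfl⟩
  choose x₃ hx₃def using hx₃ex
  have hx₃K : ∀ j l, x₃ j l ∈ 𝒦 (U j) := fun j l => by
    rw [hx₃def]; exact Ideal.mul_mem_left _ _ (hx₂K j l)
  have star : ∀ j m l, res (inf_le_left : U j ⊓ U m ≤ U j) (x₃ j l) -
      res (inf_le_right : U j ⊓ U m ≤ U m) (x₃ m l) =
      (res (inf_le_left : U j ⊓ U m ≤ U j) (γ l j)) ^ N * c j m := by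
    intro j m l
    set gj := res (inf_le_left : U j ⊓ U m ≤ U j) (γ l j) with hgj
    set gm := res (inf_le_right : U j ⊓ U m ≤ U m) (γ l m) with hgm
    have hgK : gm ^ N₂ - gj ^ N₂ ∈ 𝒦 (U j ⊓ U m) := by
      apply pow_sub_pow_mem
      have h2 := (𝒦 (U j ⊓ U m)).neg_mem (hγc j m l)
      rwa [neg_sub] at h2
    have hxK : res (inf_le_right : U j ⊓ U m ≤ U m) (x₂ m l) ∈ 𝒦 (U j ⊓ U m) :=
      hres _ _ _ _ (hx₂K m l)
    have h0 : (gm ^ N₂ - gj ^ N₂) * res (inf_le_right : U j ⊓ U m ≤ U m) (x₂ m l) = 0 :=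
      hsq _ (hUU j m) _ _ hgK hxK
    have h0' : gm ^ N₂ * res (inf_le_right : U j ⊓ U m ≤ U m) (x₂ m l) =
        gj ^ N₂ * res (inf_le_right : U j ⊓ U m ≤ U m) (x₂ m l) := by
      rw [← sub_eq_zero, ← sub_mul]; exact h0
    have h1 : gj ^ N₂ * (res (inf_le_left : U j ⊓ U m ≤ U j) (x₂ j l) -
        res (inf_le_right : U j ⊓ U m ≤ U m) (x₂ m l) - gj ^ N₁ * c j m) = 0 := by
      have := hn₂ j m l
      rw [← Nat.sub_add_cancel (hN₂ j m l), pow_add, mul_assoc, this, mul_zero]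
    rw [hx₃def, hx₃def, map_mul, map_mul, map_pow, map_pow, ← hgj, ← hgm, h0']
    have : gj ^ N * c j m = gj ^ N₂ * (gj ^ N₁ * c j m) := by
      rw [← mul_assoc, ← pow_add]
    rw [this, ← mul_sub, ← sub_eq_zero, ← mul_sub]
    exact h1
  -- Step (iv)
  obtain ⟨α, hαc, hα1⟩ := hpart N
  refine ⟨fun j => ∑ l, α l j * x₃ j l, fun j => ?_, fun j m => ?_⟩
  · exact Ideal.sum_mem _ fun l _ => Ideal.mul_mem_left _ _ (hx₃K j l)
  · rw [map_sub, map_sub, sub_eq_sub_iff_sub_eq_sub]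
    change c j m = _
    rw [map_sum, map_sum, ← Finset.sum_sub_distrib]
    have hterm : ∀ l, res (inf_le_left : U j ⊓ U m ≤ U j) (α l j * x₃ j l) -
        res (inf_le_right : U j ⊓ U m ≤ U m) (α l m * x₃ m l) =
        res (inf_le_left : U j ⊓ U m ≤ U j) (α l j * (γ l j) ^ N) * c j m := by
      intro l
      have hxK : res (inf_le_right : U j ⊓ U m ≤ U m) (x₃ m l) ∈ 𝒦 (U j ⊓ U m) :=
        hres _ _ _ _ (hx₃K m l)
      have h0 : (res (inf_le_left : U j ⊓ U m ≤ U j) (α l j) -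
          res (inf_le_right : U j ⊓ U m ≤ U m) (α l m)) *
          res (inf_le_right : U j ⊓ U m ≤ U m) (x₃ m l) = 0 :=
        hsq _ (hUU j m) _ _ (hαc j m l) hxK
      rw [map_mul, map_mul, map_mul, map_pow, mul_assoc, ← star j m l, mul_sub]
      rw [sub_mul] at h0
      rw [sub_eq_zero] at h0
      rw [h0]
    rw [Finset.sum_congr rfl fun l _ => hterm l, ← Finset.sum_mul, ← map_sum]
    have h1 := hres _ _ (inf_le_left : U j ⊓ U m ≤ U j) _ (hα1 j)
    have h2 : (res (inf_le_left : U j ⊓ U m ≤ U j) (∑ l, α l j * (γ l j) ^ N - 1)) * c j m = 0 :=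
      hsq _ (hUU j m) _ _ h1 (hβ j m)
    rw [map_sub, map_one, sub_mul, one_mul, sub_eq_zero] at h2
    exact h2.symm

end cech

end Groth.Agent.H61.AffThick
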