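import Mathlib
import Groth.Agent.H61.AffThick.Cech

set_option linter.style.haveILetI false
set_option linter.unusedSectionVars false

/-! A square-zero thickening of an affine scheme is affine. -/

open AlgebraicGeometry CategoryTheory Opposite TopologicalSpace

namespace Groth.Agent.H61.AffThick

universe u

variable {Z Y : Scheme.{u}} (i : Z ⟶ Y)

lemma preimage_le {V W : Y.Opens} (h : V ≤ W) : i ⁻¹ᵁ V ≤ i ⁻¹ᵁ W := fun _ hz => h hz

/-- naturality of `i.app` with respect to restriction. -/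
lemma app_res {V W : Y.Opens} (h : V ≤ W) (x : Γ(Y, W)) :
    (i.app V).hom (res h x) = res (preimage_le i h) ((i.app W).hom x) := by
  have := i.naturality (homOfLE h).op
  exact ConcreteCategory.congr_hom this x

/-- the kernel ideal of `i` on an open. -/
noncomputable def kerI (W : Y.Opens) : Ideal Γ(Y, W) := RingHom.ker (i.app W).hom

lemma mem_kerI {W : Y.Opens} (x : Γ(Y, W)) : x ∈ kerI i W ↔ (i.app W).hom x = 0 := Iff.rfl

lemma kerI_res {V W : Y.Opens} (h : V ≤ W) (x : Γ(Y, W)) (hx : x ∈ kerI i W) :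
    res h x ∈ kerI i V := by
  rw [mem_kerI] at hx ⊢
  rw [app_res, hx, map_zero]

lemma kerI_sq [IsClosedImmersion i] (hsq : i.ker * i.ker = ⊥) (W : Y.Opens) (hW : IsAffineOpen W)
    (x y : Γ(Y, W)) (hx : x ∈ kerI i W) (hy : y ∈ kerI i W) : x * y = 0 := by
  have h2 : (i.ker * i.ker).ideal ⟨W, hW⟩ = ⊥ := by rw [hsq]; rfl
  rw [Scheme.IdealSheafData.ideal_mul, Pi.mul_apply, Scheme.Hom.ker_apply] at h2
  have : x * y ∈ RingHom.ker (i.app W).hom * RingHom.ker (i.app W).hom :=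
    Ideal.mul_mem_mul hx hy
  rw [h2] at this
  exact this

lemma surjective_of_sq [IsClosedImmersion i] (hsq : i.ker * i.ker = ⊥) : Function.Surjective i := by
  have h1 : (i.ker * i.ker).support = i.ker.support := by
    rw [Scheme.IdealSheafData.support_mul, sup_idem]
  rw [hsq, Scheme.IdealSheafData.support_bot] at h1
  have h2 : (i.ker.support : Set Y) = closure (Set.range i) := by
    rw [Scheme.Hom.support_ker]
  have h3 : closure (Set.range i) = Set.range i := i.isClosedEmbedding.isClosed_range.closure_eq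
  rw [← Set.range_eq_univ, ← h3, ← h2, ← h1]
  rfl

lemma preimage_injective (hs : Function.Surjective i) {U V : Y.Opens} (h : i ⁻¹ᵁ U = i ⁻¹ᵁ V) :
    U = V := by
  apply Opens.ext
  apply Set.preimage_injective.mpr hs
  exact congrArg (fun W : Z.Opens => (W : Set Z)) h

/-- Lemma A: affine opens of `Y` whose preimages are basic opens of the affine `Z`. -/
lemma exists_basicOpen_nhd [IsClosedImmersion i] [IsAffine Z] (z : Z) :
    ∃ (g : Γ(Z, ⊤)) (U' : Y.Opens), IsAffineOpen U' ∧ i ⁻¹ᵁ U' = Z.basicOpen g ∧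
      z ∈ Z.basicOpen g := by
  obtain ⟨V', hV', hzV'⟩ : ∃ V' : Y.Opens, IsAffineOpen V' ∧ i z ∈ V' := by
    obtain ⟨_, ⟨V, hV, rfl⟩, hz, -⟩ :=
      Y.isBasis_affineOpens.exists_subset_of_mem_open (Set.mem_univ (i z)) isOpen_univ
    exact ⟨V, hV, hz⟩
  have hV : IsAffineOpen (i ⁻¹ᵁ V') := hV'.preimage i
  obtain ⟨g, hzg, hgV⟩ : ∃ g : Γ(Z, ⊤), z ∈ Z.basicOpen g ∧ Z.basicOpen g ≤ i ⁻¹ᵁ V' := by
    have hb := isBasis_basicOpen Z
    obtain ⟨_, ⟨g, rfl⟩, hz, hle⟩ := Opens.isBasis_iff_nbhd.mp hb (U := i ⁻¹ᵁ V') (x := z) hzV'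
    exact ⟨g, hz, hle⟩
  obtain ⟨h, hh⟩ := i.app_surjective V' hV' (res le_top g)
  refine ⟨g, Y.basicOpen h, hV'.basicOpen h, ?_, hzg⟩
  rw [Scheme.preimage_basicOpen]
  have : (i.app V') h = res le_top g := hh
  rw [this]
  unfold res
  rw [Scheme.basicOpen_res]
  exact inf_eq_right.mpr hgV


/-- Lemma B: a finite cover of this kind. -/
lemma exists_cover [IsClosedImmersion i] [IsAffine Z] :
    ∃ (t : Finset Z) (g : t → Γ(Z, ⊤)) (U' : t → Y.Opens), (∀ j, IsAffineOpen (U' j)) ∧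
      (∀ j, i ⁻¹ᵁ U' j = Z.basicOpen (g j)) ∧ Ideal.span (Set.range g) = ⊤ := by
  choose g U' hU' hpre hz using exists_basicOpen_nhd i
  obtain ⟨t, ht⟩ := CompactSpace.elim_nhds_subcover (fun z => (Z.basicOpen (g z) : Set Z))
    (fun z => (Z.basicOpen (g z)).isOpen.mem_nhds (hz z))
  refine ⟨t, fun j => g j, fun j => U' j, fun j => hU' j, fun j => hpre j, ?_⟩
  rw [← IsAffineOpen.iSup_basicOpen_eq_self_iff (isAffineOpen_top Z)]
  rw [eq_top_iff]
  intro z _
  have hz' : z ∈ ⋃ x ∈ t, (Z.basicOpen (g x) : Set Z) := by rw [ht]; trivial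
  obtain ⟨x, hx, hzx⟩ := Set.mem_iUnion₂.mp hz'
  exact Opens.mem_iSup.mpr ⟨⟨g x, ⟨⟨x, hx⟩, rfl⟩⟩, hzx⟩

section main

variable [IsClosedImmersion i] [IsAffine Z] (hsq : i.ker * i.ker = ⊥)
  {J : Type*} [Fintype J] (g : J → Γ(Z, ⊤)) (U' : J → Y.Opens)
  (hU' : ∀ j, IsAffineOpen (U' j)) (hpre : ∀ j, i ⁻¹ᵁ U' j = Z.basicOpen (g j))
  (hspan : Ideal.span (Set.range g) = ⊤)

include hsq hU' hpre hspan in
/-- Lemma C: global sections lift along a square-zero thickening of an affine scheme. -/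
theorem appTop_surjective : Function.Surjective (i.app ⊤).hom := by
  classical
  have hs : Function.Surjective i := surjective_of_sq i hsq
  intro b
  have hlift : ∀ (j : J) (a : Γ(Z, ⊤)), ∃ x : Γ(Y, U' j),
      (i.app (U' j)).hom x = res le_top a := fun j a => i.app_surjective (U' j) (hU' j) _
  choose L hL using hlift
  have hcompat : ∀ (a : Γ(Z, ⊤)) (j m : J) (x : Γ(Y, U' j)) (y : Γ(Y, U' m)),
      (i.app (U' j)).hom x = res le_top a → (i.app (U' m)).hom y = res le_top a →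
      res (inf_le_left : U' j ⊓ U' m ≤ U' j) x - res (inf_le_right : U' j ⊓ U' m ≤ U' m) y ∈
        kerI i (U' j ⊓ U' m) := by
    intro a j m x y hx hy
    rw [mem_kerI, map_sub, app_res, app_res, hx, hy, res_res, res_res, sub_self]
  have hγ : ∀ j l, U' j ⊓ U' l = Y.basicOpen (L j (g l)) := by
    intro j l
    apply preimage_injective i hs
    rw [Scheme.preimage_basicOpen]
    have : (i.app (U' j)) (L j (g l)) = res le_top (g l) := hL j (g l)
    rw [this]
    unfold res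
    rw [Scheme.basicOpen_res, ← hpre l]
    rfl
  have hL1 : ∀ j l (s : Γ(Y, U' j ⊓ U' l)), s ∈ kerI i (U' j ⊓ U' l) →
      ∃ (n : ℕ) (x : Γ(Y, U' j)), x ∈ kerI i (U' j) ∧
        res (inf_le_left : U' j ⊓ U' l ≤ U' j) x =
          (res (inf_le_left : U' j ⊓ U' l ≤ U' j) (L j (g l))) ^ n * s := by
    intro j l s hsK
    obtain ⟨f, hf⟩ : ∃ f : Γ(Y, U' j), f = L j (g l) := ⟨_, rfl⟩
    rw [← hf]
    have hD : Y.basicOpen f = U' j ⊓ U' l := by rw [hf]; exact (hγ j l).symm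
    obtain ⟨s', hs'⟩ : ∃ s' : Γ(Y, Y.basicOpen f), s' = res hD.le s := ⟨_, rfl⟩
    obtain ⟨n, y, hy⟩ := exists_eq_pow_mul_of_isAffineOpen Y (U' j) (hU' j) f s'
    have hy' : res (Y.basicOpen_le f) y = (res (Y.basicOpen_le f) f) ^ n * s' := hy
    have hs'K : s' ∈ kerI i (Y.basicOpen f) := by rw [hs']; exact kerI_res i _ s hsK
    have h0 : res (preimage_le i (Y.basicOpen_le f)) ((i.app (U' j)).hom y) = 0 := by
      rw [← app_res i (Y.basicOpen_le f), hy', map_mul, (mem_kerI i s').mp hs'K, mul_zero]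
    have hZ : Z.basicOpen ((i.app (U' j)).hom f) = i ⁻¹ᵁ (Y.basicOpen f) :=
      (Scheme.preimage_basicOpen i f).symm
    obtain ⟨n', hn'⟩ := exists_pow_mul_eq_zero_of_res_basicOpen_eq_zero_of_isAffineOpen Z
      ((hU' j).preimage i) ((i.app (U' j)).hom y) ((i.app (U' j)).hom f) (by
        change res _ _ = 0
        have := congrArg (res hZ.le) h0
        rw [res_res, map_zero] at this
        exact this)
    refine ⟨n' + n, f ^ n' * y, ?_, ?_⟩
    · rw [mem_kerI, map_mul, map_pow]; exact hn'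
    · rw [map_mul, map_pow, pow_add, mul_assoc]
      congr 1
      have := congrArg (res hD.ge) hy'
      rw [res_res, map_mul, map_pow, res_res, hs', res_res, res_self] at this
      exact this
  have hpart : ∀ N : ℕ, ∃ α : J → ∀ j : J, Γ(Y, U' j),
      (∀ j m l, res (inf_le_left : U' j ⊓ U' m ≤ U' j) (α l j) -
        res (inf_le_right : U' j ⊓ U' m ≤ U' m) (α l m) ∈ kerI i (U' j ⊓ U' m)) ∧
      ∀ j, ∑ l, α l j * (L j (g l)) ^ N - 1 ∈ kerI i (U' j) := by
    intro N
    have h1 : Ideal.span (Set.range fun l => g l ^ N) = ⊤ := by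
      have := Ideal.span_pow_eq_top _ hspan N
      rwa [← Set.range_comp] at this
    have h2 : (1 : Γ(Z, ⊤)) ∈ Ideal.span (Set.range fun l => g l ^ N) := by
      rw [h1]; trivial
    obtain ⟨a, ha⟩ := (Ideal.mem_span_range_iff_exists_fun).mp h2
    refine ⟨fun l j => L j (a l), fun j m l => hcompat (a l) j m _ _ (hL j _) (hL m _),
      fun j => ?_⟩
    rw [mem_kerI, map_sub, map_sum, map_one]
    simp only [map_mul, map_pow, hL]
    simp only [← map_pow, ← map_mul, ← map_sum]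
    rw [ha, map_one, sub_self]
  obtain ⟨μ, hμK, hμ⟩ := cech_glue (X := Y) U' hU' (kerI i)
    (fun V W h x hx => kerI_res i h x hx)
    (fun W hW x y hx hy => kerI_sq i hsq W hW x y hx hy)
    (fun l j => L j (g l)) hγ
    (fun j m l => hcompat (g l) j m _ _ (hL j _) (hL m _)) hL1 hpart
    (fun j => L j b) (fun j m => hcompat b j m _ _ (hL j _) (hL m _))
  -- the `U' j` cover `Y`
  have hcovZ : (⊤ : Z.Opens) ≤ ⨆ j, i ⁻¹ᵁ U' j := by
    have := (IsAffineOpen.iSup_basicOpen_eq_self_iff (isAffineOpen_top Z) (s := Set.range g)).mpr hspan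
    rw [← this]
    refine iSup_le fun f => ?_
    obtain ⟨f, j, rfl⟩ := f
    rw [← hpre j]
    exact le_iSup (fun j => i ⁻¹ᵁ U' j) j
  have hcovY : (⊤ : Y.Opens) ≤ ⨆ j, U' j := by
    intro y _
    obtain ⟨z, rfl⟩ := hs y
    obtain ⟨j, hj⟩ := Opens.mem_iSup.mp (hcovZ (show z ∈ (⊤ : Z.Opens) from trivial))
    exact Opens.mem_iSup.mpr ⟨j, hj⟩
  -- glue
  obtain ⟨b', hb', -⟩ := Y.sheaf.existsUnique_gluing' U' ⊤ (fun j => homOfLE le_top) hcovY
    (fun j => L j b - μ j) (fun j m => hμ j m)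
  refine ⟨b', ?_⟩
  refine Z.sheaf.eq_of_locally_eq' (fun j => i ⁻¹ᵁ U' j) ⊤ (fun j => homOfLE le_top) hcovZ _ _ ?_
  intro j
  have h1 : res (le_top : U' j ≤ ⊤) b' = L j b - μ j := hb' j
  change res (le_top : i ⁻¹ᵁ U' j ≤ ⊤) ((i.app ⊤).hom b') = res (le_top : i ⁻¹ᵁ U' j ≤ ⊤) b
  have h2 := app_res i (le_top : U' j ≤ ⊤) b'
  rw [h1, map_sub, hL, (mem_kerI i _).mp (hμK j), sub_zero] at h2
  exact h2.symm

include hsq hU' hpre hspan in
/-- Lemma D: the thickening is affine. -/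
theorem isAffine_of_cover : IsAffine Y := by
  classical
  have hs : Function.Surjective i := surjective_of_sq i hsq
  have hsurj := appTop_surjective i hsq g U' hU' hpre hspan
  choose Lt hLt using hsurj
  -- the cover of `Y`
  have hcovZ : (⊤ : Z.Opens) ≤ ⨆ j, i ⁻¹ᵁ U' j := by
    have := (IsAffineOpen.iSup_basicOpen_eq_self_iff (isAffineOpen_top Z) (s := Set.range g)).mpr hspan
    rw [← this]
    refine iSup_le fun f => ?_
    obtain ⟨f, j, rfl⟩ := f
    rw [← hpre j]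
    exact le_iSup (fun j => i ⁻¹ᵁ U' j) j
  have hcovY : (⊤ : Y.Opens) ≤ ⨆ j, U' j := by
    intro y _
    obtain ⟨z, rfl⟩ := hs y
    obtain ⟨j, hj⟩ := Opens.mem_iSup.mp (hcovZ (show z ∈ (⊤ : Z.Opens) from trivial))
    exact Opens.mem_iSup.mpr ⟨j, hj⟩
  -- kernel of global sections squares to zero
  have hK2 : ∀ x y : Γ(Y, ⊤), (i.app ⊤).hom x = 0 → (i.app ⊤).hom y = 0 → x * y = 0 := by
    intro x y hx hy
    refine Y.sheaf.eq_of_locally_eq' U' ⊤ (fun j => homOfLE le_top) hcovY _ _ ?_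
    intro j
    change res (le_top : U' j ≤ ⊤) (x * y) = res (le_top : U' j ≤ ⊤) 0
    rw [map_mul, map_zero]
    exact kerI_sq i hsq (U' j) (hU' j) _ _ (kerI_res i _ x hx) (kerI_res i _ y hy)
  -- basic opens
  have hbo : ∀ j, Y.basicOpen (Lt (g j)) = U' j := by
    intro j
    apply preimage_injective i hs
    rw [Scheme.preimage_basicOpen, hpre j]
    congr 1
    exact hLt (g j)
  refine isAffine_of_isAffineOpen_basicOpen (Set.range fun j => Lt (g j)) ?_ ?_
  · -- span = ⊤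
    have h2 : (1 : Γ(Z, ⊤)) ∈ Ideal.span (Set.range g) := by rw [hspan]; trivial
    obtain ⟨a, ha⟩ := (Ideal.mem_span_range_iff_exists_fun).mp h2
    set e : Γ(Y, ⊤) := ∑ j, Lt (a j) * Lt (g j) with he
    have hemem : e ∈ Ideal.span (Set.range fun j => Lt (g j)) :=
      (Ideal.mem_span_range_iff_exists_fun).mpr ⟨fun j => Lt (a j), rfl⟩
    have he1 : (i.app ⊤).hom (e - 1) = 0 := by
      rw [map_sub, map_one, he, map_sum]
      simp only [map_mul, hLt]
      exact sub_eq_zero.mpr ha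
    have hnil : IsNilpotent (e - 1) := ⟨2, by rw [pow_two]; exact hK2 _ _ he1 he1⟩
    have hunit : IsUnit e := by
      have := hnil.isUnit_add_one
      rwa [sub_add_cancel] at this
    exact Ideal.eq_top_of_isUnit_mem _ hemem hunit
  · rintro _ ⟨j, rfl⟩
    change IsAffineOpen (Y.basicOpen (Lt (g j)))
    rw [hbo j]
    exact hU' j

end main

/-- **A square-zero thickening of an affine scheme is affine.** -/
theorem isAffine_of_sqZero [IsClosedImmersion i] [IsAffine Z] (hsq : i.ker * i.ker = ⊥) :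
    IsAffine Y := by
  obtain ⟨t, g, U', hU', hpre, hspan⟩ := exists_cover i
  exact isAffine_of_cover i hsq g U' hU' hpre hspan

end Groth.Agent.H61.AffThick
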