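import Mathlib
import Groth.Agent.H20.ComapMul
import Groth.Agent.H61.AffThick.SqZero

set_option linter.style.haveILetI false
set_option linter.unusedSectionVars false

/-! A nilpotent thickening of an affine scheme is affine. -/

open AlgebraicGeometry CategoryTheory CategoryTheory.Limits Opposite TopologicalSpace

namespace Groth.Agent.H61.AffThick

universe u

lemma ker_eq_comap_of_isPullback {P X Y Z : Scheme.{u}} {fst : P ⟶ X} {snd : P ⟶ Z}
    {f : X ⟶ Y} {i : Z ⟶ Y} [IsClosedImmersion i] (H : IsPullback fst snd f i) :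
    fst.ker = i.ker.comap f := by
  rw [← H.isoPullback_hom_fst, Scheme.Hom.ker_comp_of_isIso,
    Scheme.IdealSheafData.ker_fst_of_isClosedImmersion]

lemma isPullback_of_mono' {C : Type*} [Category C] {A B D : C} (f : A ⟶ B) (g : B ⟶ D) [Mono g] :
    IsPullback f (𝟙 A) g (f ≫ g) := by
  have h1 : IsPullback f (𝟙 A) (𝟙 B) f := IsPullback.id_vert f
  have h2 : IsPullback (𝟙 B) (𝟙 B) g g := (IsKernelPair.id_of_mono g)
  have := h1.paste_horiz h2
  rwa [Category.comp_id] at this

lemma ker_comap_self {X Y : Scheme.{u}} (i : X ⟶ Y) [IsClosedImmersion i] :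
    i.ker.comap i = ⊥ := by
  have sq : IsPullback (𝟙 X) (𝟙 X) i i := IsKernelPair.id_of_mono i
  rw [← ker_eq_comap_of_isPullback sq]
  exact Scheme.Hom.ker_eq_bot_of_isIso _

lemma idealSheaf_pow_le {X : Scheme.{u}} (I : X.IdealSheafData) {n : ℕ} (hn : n ≠ 0) :
    I ^ n ≤ I := by
  obtain ⟨m, rfl⟩ := Nat.exists_eq_succ_of_ne_zero hn
  rw [Scheme.IdealSheafData.le_def]
  intro U
  rw [Scheme.IdealSheafData.ideal_pow, Pi.pow_apply]
  exact Ideal.pow_le_self (Nat.succ_ne_zero m)

/-- the closed subscheme cut out by a smaller ideal sheaf `J ≤ ker i` receives `Z`, with kernel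
the pullback of `ker i`. -/
lemma exists_factor {Z Y : Scheme.{u}} (i : Z ⟶ Y) [IsClosedImmersion i]
    (J : Y.IdealSheafData) (hJ : J ≤ i.ker) :
    ∃ i₁ : Z ⟶ J.subscheme, IsClosedImmersion i₁ ∧ i₁ ≫ J.subschemeι = i ∧
      i₁.ker = i.ker.comap J.subschemeι := by
  have hιker : J.subschemeι.ker = J := Scheme.IdealSheafData.ker_subschemeι _
  have hle : J.subschemeι.ker ≤ i.ker := by rw [hιker]; exact hJ
  have hfac : IsClosedImmersion.lift J.subschemeι i hle ≫ J.subschemeι = i :=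
    IsClosedImmersion.lift_fac J.subschemeι i hle
  obtain ⟨i₁, hi₁⟩ : ∃ i₁ : Z ⟶ J.subscheme, i₁ = IsClosedImmersion.lift J.subschemeι i hle :=
    ⟨_, rfl⟩
  rw [← hi₁] at hfac
  haveI : IsClosedImmersion (i₁ ≫ J.subschemeι) := by rw [hfac]; infer_instance
  haveI : IsClosedImmersion i₁ := IsClosedImmersion.of_comp_isClosedImmersion i₁ J.subschemeι
  refine ⟨i₁, inferInstance, hfac, ?_⟩
  have sq : IsPullback i₁ (𝟙 Z) J.subschemeι (i₁ ≫ J.subschemeι) :=
    isPullback_of_mono' i₁ J.subschemeι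
  have := ker_eq_comap_of_isPullback sq
  rw [this, hfac]

lemma ker_pow_factor {Z Y : Scheme.{u}} (i : Z ⟶ Y) [IsClosedImmersion i]
    (J : Y.IdealSheafData) (m : ℕ) (hJm : J = i.ker ^ m)
    (i₁ : Z ⟶ J.subscheme) (hker : i₁.ker = i.ker.comap J.subschemeι) : i₁.ker ^ m = ⊥ := by
  have hιker : J.subschemeι.ker = J := Scheme.IdealSheafData.ker_subschemeι _
  have h := ker_comap_self J.subschemeι
  rw [hιker] at h
  rw [hker, ← Groth.Agent.H20.comap_pow, ← hJm]
  exact h

/-- **A nilpotent thickening of an affine scheme is affine.** -/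
theorem isAffine_of_ker_pow (n : ℕ) : ∀ {Z Y : Scheme.{u}} (i : Z ⟶ Y) [IsClosedImmersion i]
    [IsAffine Z], i.ker ^ n = ⊥ → IsAffine Y := by
  induction n using Nat.strong_induction_on with
  | _ n ih =>
    intro Z Y i _ _ hn
    by_cases h2 : n ≤ 2
    · apply isAffine_of_sqZero i
      rw [← pow_two, ← Nat.add_sub_cancel' h2, pow_add, hn, Scheme.IdealSheafData.bot_mul]
    · push Not at h2
      obtain ⟨m, rfl⟩ : ∃ m, n = m + 1 := ⟨n - 1, by omega⟩
      have hm : 2 ≤ m := by omega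
      obtain ⟨J, hJm⟩ : ∃ J : Y.IdealSheafData, J = i.ker ^ m := ⟨_, rfl⟩
      have hJ : J ≤ i.ker := by rw [hJm]; exact idealSheaf_pow_le _ (by omega)
      obtain ⟨i₁, hci, hfac, hker⟩ := exists_factor i J hJ
      have hpow : i₁.ker ^ m = ⊥ := ker_pow_factor i J m hJm i₁ hker
      have hlt : m < m + 1 := Nat.lt_succ_self m
      haveI : IsAffine J.subscheme := @ih m hlt Z J.subscheme i₁ hci ‹_› hpow
      apply isAffine_of_sqZero J.subschemeι
      rw [Scheme.IdealSheafData.ker_subschemeι, hJm, ← pow_add]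
      have : m + m = (m + 1) + (m - 1) := by omega
      rw [this, pow_add, hn, Scheme.IdealSheafData.bot_mul]

end Groth.Agent.H61.AffThick
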