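import Mathlib
import Groth.Prelude.Def_ArtFun4
import Groth.Agent.H61.AffThick.Nilpotent

set_option linter.style.haveILetI false
set_option linter.unusedSectionVars false

/-! The total space of a deformation of an affine scheme over an Artinian local ring is affine. -/

open AlgebraicGeometry CategoryTheory CategoryTheory.Limits Opposite TopologicalSpace

namespace Groth.Agent.H61.AffThick

universe u

/-- the kernel ideal sheaf of `Spec` of a surjection with nilpotent kernel is nilpotent. -/
lemma ker_specMap_pow {A B : CommRingCat.{u}} (φ : A ⟶ B) (n : ℕ)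
    (hn : (RingHom.ker φ.hom) ^ n = ⊥) : (Spec.map φ).ker ^ n = ⊥ := by
  refine Scheme.IdealSheafData.ext_of_iSup_eq_top
    (fun _ : Unit => (⟨⊤, isAffineOpen_top _⟩ : (Spec A).affineOpens)) ciSup_const ?_
  intro _
  rw [Scheme.IdealSheafData.ideal_pow, Pi.pow_apply, Scheme.Hom.ker_apply]
  change _ = (⊥ : Ideal _)
  rw [eq_bot_iff]
  have hnat := Scheme.ΓSpecIso_naturality φ
  have key : ∀ z : Γ(Spec A, ⊤), ((Spec.map φ).app ⊤).hom z = 0 →
      φ.hom ((Scheme.ΓSpecIso A).hom.hom z) = 0 := by
    intro z hz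
    have := ConcreteCategory.congr_hom hnat z
    simp only [CommRingCat.comp_apply] at this
    rw [← this]
    change (Scheme.ΓSpecIso B).hom.hom (((Spec.map φ).app ⊤).hom z) = 0
    rw [hz]
    exact map_zero (Scheme.ΓSpecIso B).hom.hom
  have hinj : Function.Injective (Scheme.ΓSpecIso A).hom.hom :=
    (ConcreteCategory.bijective_of_isIso (Scheme.ΓSpecIso A).hom).1
  have hle : RingHom.ker ((Spec.map φ).app ⊤).hom ≤
      (RingHom.ker φ.hom).comap (Scheme.ΓSpecIso A).hom.hom := fun z hz => key z hz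
  intro x hx
  have h1 : x ∈ ((RingHom.ker φ.hom).comap (Scheme.ΓSpecIso A).hom.hom) ^ n :=
    Ideal.pow_right_mono hle n hx
  have h2 : x ∈ ((RingHom.ker φ.hom) ^ n).comap (Scheme.ΓSpecIso A).hom.hom :=
    Ideal.le_comap_pow _ n h1
  rw [hn] at h2
  exact hinj (h2.trans (map_zero _).symm)

open ArtFun ArtFun.Art

variable {Λ : Type u} {k : Type u} [CommRing Λ] [Field k] [Algebra Λ k]

lemma isClosedImmersion_specRes (A : Art Λ k) : IsClosedImmersion (specRes A) :=
  IsClosedImmersion.spec_of_surjective _ A.res_surjective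

lemma exists_ker_res_pow (A : Art Λ k) : ∃ n : ℕ, (RingHom.ker A.res.toRingHom) ^ n = ⊥ := by
  have h1 : RingHom.ker A.res.toRingHom = IsLocalRing.maximalIdeal A := by
    ext a
    rw [mem_maximalIdeal_iff]
    rfl
  rw [h1]
  have := IsArtinianRing.isNilpotent_jacobson_bot (R := A)
  rw [IsLocalRing.jacobson_eq_maximalIdeal ⊥ bot_ne_top] at this
  obtain ⟨n, hn⟩ := this
  exact ⟨n, hn⟩

variable {X : Scheme.{u}} {x : X ⟶ specPt k} {A : Art Λ k}

lemma DefSch.isClosedImmersion_i (ξ : DefSch X x A) : IsClosedImmersion ξ.i := by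
  haveI := isClosedImmersion_specRes A
  exact MorphismProperty.of_isPullback (P := @IsClosedImmersion) ξ.isPullback.flip inferInstance

lemma DefSch.exists_ker_i_pow (ξ : DefSch X x A) : ∃ n : ℕ, ξ.i.ker ^ n = ⊥ := by
  haveI := isClosedImmersion_specRes A
  obtain ⟨n, hn⟩ := exists_ker_res_pow A
  refine ⟨n, ?_⟩
  rw [ker_eq_comap_of_isPullback ξ.isPullback, ← Groth.Agent.H20.comap_pow]
  have : (specRes A).ker ^ n = ⊥ := ker_specMap_pow _ n hn
  rw [this, Scheme.IdealSheafData.comap_bot]

/-- **Deformations of an affine scheme over an Artinian local ring are affine.** -/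
theorem DefSch.isAffine_total [IsAffine X] (ξ : DefSch X x A) : IsAffine ξ.total := by
  haveI := DefSch.isClosedImmersion_i ξ
  obtain ⟨n, hn⟩ := DefSch.exists_ker_i_pow ξ
  exact isAffine_of_ker_pow n ξ.i hn

end Groth.Agent.H61.AffThick
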